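import Cfsg.Agent.Spor.J4mb.D0

set_option autoImplicit false
set_option maxRecDepth 100000000
set_option Elab.async false

namespace Cfsg.Agent.Spor.J4mb

theorem ok0 : Net.okb 4 n0 = true := by decide +kernel

theorem ok1 : Net.okb 4 n1 = true := by decide +kernel

theorem ok2 : Net.okb 4 n2 = true := by decide +kernel

theorem ok3 : Net.okb 4 n3 = true := by decide +kernel

theorem rel0 : T.rel 4 [1, 1] 0 4 = true := by decide +kernel

theorem rel1 : T.rel 4 [2, 2] 0 4 = true := by decide +kernel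

theorem rel2 : T.rel 4 [3, 3] 0 4 = true := by decide +kernel

theorem rel3 : T.rel 4 [4, 4, 4] 0 4 = true := by decide +kernel

theorem rel4 : T.rel 4 [1, 4, 1, 4] 0 4 = true := by decide +kernel

theorem rel5 : T.rel 4 [3, 4, 3, 4, 3, 4, 3, 4, 3, 4] 0 4 = true := by decide +kernel

theorem rel6 : T.rel 4 [1, 3, 1, 5, 3, 4, 3, 1, 3, 5, 3, 4] 0 4 = true := by decide +kernel

theorem rel7 : T.rel 4 [2, 1, 2, 5, 2, 4, 1] 0 4 = true := by decide +kernel

theorem rel8 : T.rel 4 [2, 3, 4, 3, 2, 3, 5, 3] 0 4 = true := by decide +kernel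

theorem rel9 : T.rel 4 [2, 1, 3, 2, 1, 3, 2, 1, 3] 0 4 = true := by decide +kernel

theorem hcov : T.treeCov (ones 16) L 1 = true := by decide +kernel

theorem hg : lall (fun z => band (memL L z) (band (sub (ones 16) (T.let z).cl) (T.closed (ones 16) z))) gs = true := by decide +kernel

theorem rot1_1 : T.rot 1 [1] (sel (ones 16) ip1 1) = true := by decide +kernel

theorem rot1_1r : band (Rule.ok (2 * 3) EX RL ⟨1 :: [1], [], 7, false⟩) (lall (memL L) [1]) = true := by decide +kernel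

theorem rot1_2 : T.rot 1 [4, 1, 4] (sel (ones 16) ip1 2) = true := by decide +kernel

theorem rot1_2r : band (Rule.ok (2 * 3) EX RL ⟨1 :: [4, 1, 4], [], 1, true⟩) (lall (memL L) [4, 1, 4]) = true := by decide +kernel

theorem rot1_3 : T.rot 1 [5, 1, 5] (sel (ones 16) ip1 3) = true := by decide +kernel

theorem rot1_3r : band (Rule.ok (2 * 3) EX RL ⟨1 :: [5, 1, 5], [0], 1, false⟩) (lall (memL L) [5, 1, 5]) = true := by decide +kernel

theorem rot1_4 : T.rot 1 [2, 5, 2, 4, 1, 2] (sel (ones 16) ip1 4) = true := by decide +kernel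

theorem rot1_4r : band (Rule.ok (2 * 3) EX RL ⟨1 :: [2, 5, 2, 4, 1, 2], [2], 4, true⟩) (lall (memL L) [2, 5, 2, 4, 1, 2]) = true := by decide +kernel

theorem rot1_5 : T.rot 1 [2, 1, 2, 5, 2, 4] (sel (ones 16) ip1 5) = true := by decide +kernel

theorem rot1_5r : band (Rule.ok (2 * 3) EX RL ⟨1 :: [2, 1, 2, 5, 2, 4], [0], 4, true⟩) (lall (memL L) [2, 1, 2, 5, 2, 4]) = true := by decide +kernel

theorem rot1_6 : T.rot 1 [5, 2, 4, 2, 1, 2] (sel (ones 16) ip1 6) = true := by decide +kernel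

theorem rot1_6r : band (Rule.ok (2 * 3) EX RL ⟨1 :: [5, 2, 4, 2, 1, 2], [], 4, false⟩) (lall (memL L) [5, 2, 4, 2, 1, 2]) = true := by decide +kernel

theorem cov1 : T.cover 1 [(sel (ones 16) ip1 1), (sel (ones 16) ip1 2), (sel (ones 16) ip1 3), (sel (ones 16) ip1 4), (sel (ones 16) ip1 5), (sel (ones 16) ip1 6), 1] = true := by decide +kernel

theorem tl1 : T.treeLt 4 1 = true := by decide +kernel

theorem rot2_1 : T.rot 2 [2] (sel (ones 16) ip2 1) = true := by decide +kernel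

theorem rot2_1r : band (Rule.ok (2 * 3) EX RL ⟨2 :: [2], [], 7, false⟩) (lall (memL L) [2]) = true := by decide +kernel

theorem rot2_2 : T.rot 2 [5, 2, 4, 1, 2, 1] (sel (ones 16) ip2 2) = true := by decide +kernel

theorem rot2_2r : band (Rule.ok (2 * 3) EX RL ⟨2 :: [5, 2, 4, 1, 2, 1], [2, 0], 4, true⟩) (lall (memL L) [5, 2, 4, 1, 2, 1]) = true := by decide +kernel

theorem rot2_3 : T.rot 2 [4, 2, 1, 2, 1, 5] (sel (ones 16) ip2 3) = true := by decide +kernel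

theorem rot2_3r : band (Rule.ok (2 * 3) EX RL ⟨2 :: [4, 2, 1, 2, 1, 5], [0, 6], 4, false⟩) (lall (memL L) [4, 2, 1, 2, 1, 5]) = true := by decide +kernel

theorem rot2_4 : T.rot 2 [1, 2, 1, 5, 2, 4] (sel (ones 16) ip2 4) = true := by decide +kernel

theorem rot2_4r : band (Rule.ok (2 * 3) EX RL ⟨2 :: [1, 2, 1, 5, 2, 4], [2, 0, 2], 4, false⟩) (lall (memL L) [1, 2, 1, 5, 2, 4]) = true := by decide +kernel

theorem rot2_5 : T.rot 2 [1, 3, 2, 1, 3, 2, 1, 3] (sel (ones 16) ip2 5) = true := by decide +kernel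

theorem rot2_5r : band (Rule.ok (2 * 3) EX RL ⟨2 :: [1, 3, 2, 1, 3, 2, 1, 3], [], 6, true⟩) (lall (memL L) [1, 3, 2, 1, 3, 2, 1, 3]) = true := by decide +kernel

theorem rot2_6 : T.rot 2 [3, 1, 2, 3, 1, 2, 3, 1] (sel (ones 16) ip2 6) = true := by decide +kernel

theorem rot2_6r : band (Rule.ok (2 * 3) EX RL ⟨2 :: [3, 1, 2, 3, 1, 2, 3, 1], [2], 6, false⟩) (lall (memL L) [3, 1, 2, 3, 1, 2, 3, 1]) = true := by decide +kernel

theorem cov2 : T.cover 2 [(sel (ones 16) ip2 1), (sel (ones 16) ip2 2), (sel (ones 16) ip2 3), (sel (ones 16) ip2 4), (sel (ones 16) ip2 5), (sel (ones 16) ip2 6)] = true := by decide +kernel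

theorem tl2 : T.treeLt 4 2 = true := by decide +kernel

theorem rot3_1 : T.rot 3 [3] (sel (ones 16) ip3 1) = true := by decide +kernel

theorem rot3_1r : band (Rule.ok (2 * 3) EX RL ⟨3 :: [3], [], 7, false⟩) (lall (memL L) [3]) = true := by decide +kernel

theorem rot3_2 : T.rot 3 [5, 3, 2, 3, 4, 3, 2] (sel (ones 16) ip3 2) = true := by decide +kernel

theorem rot3_2r : band (Rule.ok (2 * 3) EX RL ⟨3 :: [5, 3, 2, 3, 4, 3, 2], [4, 7, 4], 5, true⟩) (lall (memL L) [5, 3, 2, 3, 4, 3, 2]) = true := by decide +kernel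

theorem rot3_3 : T.rot 3 [2, 1, 3, 2, 1, 3, 2, 1] (sel (ones 16) ip3 3) = true := by decide +kernel

theorem rot3_3r : band (Rule.ok (2 * 3) EX RL ⟨3 :: [2, 1, 3, 2, 1, 3, 2, 1], [4], 6, true⟩) (lall (memL L) [2, 1, 3, 2, 1, 3, 2, 1]) = true := by decide +kernel

theorem rot3_4 : T.rot 3 [1, 2, 3, 1, 2, 3, 1, 2] (sel (ones 16) ip3 4) = true := by decide +kernel

theorem rot3_4r : band (Rule.ok (2 * 3) EX RL ⟨3 :: [1, 2, 3, 1, 2, 3, 1, 2], [], 6, false⟩) (lall (memL L) [1, 2, 3, 1, 2, 3, 1, 2]) = true := by decide +kernel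

theorem rot3_5 : T.rot 3 [4, 3, 4, 3, 4, 3, 4, 3, 4] (sel (ones 16) ip3 5) = true := by decide +kernel

theorem rot3_5r : band (Rule.ok (2 * 3) EX RL ⟨3 :: [4, 3, 4, 3, 4, 3, 4, 3, 4], [], 2, true⟩) (lall (memL L) [4, 3, 4, 3, 4, 3, 4, 3, 4]) = true := by decide +kernel

theorem rot3_6 : T.rot 3 [5, 3, 5, 3, 5, 3, 5, 3, 5] (sel (ones 16) ip3 6) = true := by decide +kernel

theorem rot3_6r : band (Rule.ok (2 * 3) EX RL ⟨3 :: [5, 3, 5, 3, 5, 3, 5, 3, 5], [4], 2, false⟩) (lall (memL L) [5, 3, 5, 3, 5, 3, 5, 3, 5]) = true := by decide +kernel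

theorem rot3_7 : T.rot 3 [1, 5, 3, 4, 3, 1, 3, 5, 3, 4, 1] (sel (ones 16) ip3 7) = true := by decide +kernel

theorem rot3_7r : band (Rule.ok (2 * 3) EX RL ⟨3 :: [1, 5, 3, 4, 3, 1, 3, 5, 3, 4, 1], [0], 3, true⟩) (lall (memL L) [1, 5, 3, 4, 3, 1, 3, 5, 3, 4, 1]) = true := by decide +kernel

theorem cov3 : T.cover 3 [(sel (ones 16) ip3 1), (sel (ones 16) ip3 2), (sel (ones 16) ip3 3), (sel (ones 16) ip3 4), (sel (ones 16) ip3 5), (sel (ones 16) ip3 6), (sel (ones 16) ip3 7), 1] = true := by decide +kernel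

theorem tl3 : T.treeLt 4 3 = true := by decide +kernel

theorem rot4_1 : T.rot 4 [5] (sel (ones 16) ip4 1) = true := by decide +kernel

theorem rot4_1r : band (Rule.ok (2 * 3) EX RL ⟨4 :: [5], [], 7, false⟩) (lall (memL L) [5]) = true := by decide +kernel

theorem rot4_2 : T.rot 4 [4, 4] (sel (ones 16) ip4 2) = true := by decide +kernel

theorem rot4_2r : band (Rule.ok (2 * 3) EX RL ⟨4 :: [4, 4], [], 0, true⟩) (lall (memL L) [4, 4]) = true := by decide +kernel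

theorem rot4_3 : T.rot 4 [1, 4, 1] (sel (ones 16) ip4 3) = true := by decide +kernel

theorem rot4_3r : band (Rule.ok (2 * 3) EX RL ⟨4 :: [1, 4, 1], [6], 1, true⟩) (lall (memL L) [1, 4, 1]) = true := by decide +kernel

theorem rot4_4 : T.rot 4 [2, 1, 2, 1, 5, 2] (sel (ones 16) ip4 4) = true := by decide +kernel

theorem rot4_4r : band (Rule.ok (2 * 3) EX RL ⟨4 :: [2, 1, 2, 1, 5, 2], [0, 6, 2], 4, false⟩) (lall (memL L) [2, 1, 2, 1, 5, 2]) = true := by decide +kernel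

theorem rot4_5 : T.rot 4 [3, 2, 3, 5, 3, 2, 3] (sel (ones 16) ip4 5) = true := by decide +kernel

theorem rot4_5r : band (Rule.ok (2 * 3) EX RL ⟨4 :: [3, 2, 3, 5, 3, 2, 3], [4], 5, false⟩) (lall (memL L) [3, 2, 3, 5, 3, 2, 3]) = true := by decide +kernel

theorem rot4_6 : T.rot 4 [1, 3, 1, 5, 3, 4, 3, 1, 3, 5, 3] (sel (ones 16) ip4 6) = true := by decide +kernel

theorem rot4_6r : band (Rule.ok (2 * 3) EX RL ⟨4 :: [1, 3, 1, 5, 3, 4, 3, 1, 3, 5, 3], [6], 3, true⟩) (lall (memL L) [1, 3, 1, 5, 3, 4, 3, 1, 3, 5, 3]) = true := by decide +kernel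

theorem cov4 : T.cover 4 [(sel (ones 16) ip4 1), (sel (ones 16) ip4 2), (sel (ones 16) ip4 3), (sel (ones 16) ip4 4), (sel (ones 16) ip4 5), (sel (ones 16) ip4 6), 1] = true := by decide +kernel

theorem tl4 : T.treeLt 4 4 = true := by decide +kernel

theorem rot5_1 : T.rot 5 [4] (sel (ones 16) ip5 1) = true := by decide +kernel

theorem rot5_1r : band (Rule.ok (2 * 3) EX RL ⟨5 :: [4], [], 7, false⟩) (lall (memL L) [4]) = true := by decide +kernel

theorem rot5_2 : T.rot 5 [5, 5] (sel (ones 16) ip5 2) = true := by decide +kernel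

theorem rot5_2r : band (Rule.ok (2 * 3) EX RL ⟨5 :: [5, 5], [], 0, false⟩) (lall (memL L) [5, 5]) = true := by decide +kernel

theorem rot5_3 : T.rot 5 [1, 5, 1] (sel (ones 16) ip5 3) = true := by decide +kernel

theorem rot5_3r : band (Rule.ok (2 * 3) EX RL ⟨5 :: [1, 5, 1], [], 1, false⟩) (lall (memL L) [1, 5, 1]) = true := by decide +kernel

theorem rot5_4 : T.rot 5 [2, 4, 1, 2, 1, 2] (sel (ones 16) ip5 4) = true := by decide +kernel

theorem rot5_4r : band (Rule.ok (2 * 3) EX RL ⟨5 :: [2, 4, 1, 2, 1, 2], [2, 0, 2], 4, true⟩) (lall (memL L) [2, 4, 1, 2, 1, 2]) = true := by decide +kernel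

theorem rot5_5 : T.rot 5 [3, 2, 3, 4, 3, 2, 3] (sel (ones 16) ip5 5) = true := by decide +kernel

theorem rot5_5r : band (Rule.ok (2 * 3) EX RL ⟨5 :: [3, 2, 3, 4, 3, 2, 3], [4, 7], 5, true⟩) (lall (memL L) [3, 2, 3, 4, 3, 2, 3]) = true := by decide +kernel

theorem rot5_6 : T.rot 5 [3, 4, 3, 1, 3, 5, 3, 4, 1, 3, 1] (sel (ones 16) ip5 6) = true := by decide +kernel

theorem rot5_6r : band (Rule.ok (2 * 3) EX RL ⟨5 :: [3, 4, 3, 1, 3, 5, 3, 4, 1, 3, 1], [], 3, false⟩) (lall (memL L) [3, 4, 3, 1, 3, 5, 3, 4, 1, 3, 1]) = true := by decide +kernel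

theorem cov5 : T.cover 5 [(sel (ones 16) ip5 1), (sel (ones 16) ip5 2), (sel (ones 16) ip5 3), (sel (ones 16) ip5 4), (sel (ones 16) ip5 5), (sel (ones 16) ip5 6)] = true := by decide +kernel

theorem tl5 : T.treeLt 4 5 = true := by decide +kernel

end Cfsg.Agent.Spor.J4mb
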