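import Cfsg.Agent.Spor.Chk

set_option autoImplicit false
set_option maxRecDepth 100000000
set_option Elab.async false
noncomputable section

namespace Cfsg.Agent.Spor.J4mb

def m0_0 : Nat := nat_lit 0xa1
def m0_1 : Nat := nat_lit 0xb06
def m0_2 : Nat := nat_lit 0x110
def m0_3 : Nat := nat_lit 0x15
def m0_4 : Nat := nat_lit 0x10
def m0_5 : Nat := nat_lit 0x106
def m0_6 : Nat := nat_lit 0xa1
def n0 : Net := Net.cons 8 m0_0 (Net.cons 4 m0_1 (Net.cons 2 m0_2 (Net.cons 1 m0_3 (Net.cons 2 m0_4 (Net.cons 4 m0_5 (Net.cons 8 m0_6 (Net.nil)))))))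

def m1_0 : Nat := nat_lit 0x10d
def m1_1 : Nat := nat_lit 0x3001
def m1_2 : Nat := nat_lit 0x511
def m1_3 : Nat := nat_lit 0x10
def m1_4 : Nat := nat_lit 0x102
def n1 : Net := Net.cons 4 m1_0 (Net.cons 2 m1_1 (Net.cons 1 m1_2 (Net.cons 2 m1_3 (Net.cons 4 m1_4 (Net.nil)))))

def m2_0 : Nat := nat_lit 0x50
def m2_1 : Nat := nat_lit 0xb05
def m2_2 : Nat := nat_lit 0x1013
def m2_3 : Nat := nat_lit 0x1010
def m2_4 : Nat := nat_lit 0x1010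
def m2_5 : Nat := nat_lit 0x205
def m2_6 : Nat := nat_lit 0x50
def n2 : Net := Net.cons 8 m2_0 (Net.cons 4 m2_1 (Net.cons 2 m2_2 (Net.cons 1 m2_3 (Net.cons 2 m2_4 (Net.cons 4 m2_5 (Net.cons 8 m2_6 (Net.nil)))))))

def m3_0 : Nat := nat_lit 0xa1
def m3_1 : Nat := nat_lit 0x201
def m3_2 : Nat := nat_lit 0x20
def m3_3 : Nat := nat_lit 0x1411
def m3_4 : Nat := nat_lit 0x2201
def m3_5 : Nat := nat_lit 0x201
def m3_6 : Nat := nat_lit 0xa1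
def n3 : Net := Net.cons 8 m3_0 (Net.cons 4 m3_1 (Net.cons 2 m3_2 (Net.cons 1 m3_3 (Net.cons 2 m3_4 (Net.cons 4 m3_5 (Net.cons 8 m3_6 (Net.nil)))))))

def ip1 : List Nat := [0xa6c4, 0x9890, 0x5410]
def l1 : Let := ⟨0, false, 0xffff, 0x2244, [0x6ad4, 0x10, 0x1c80, 0xc000]⟩

def ip2 : List Nat := [0xc4a2, 0x2e44, 0xb070]
def l2 : Let := ⟨1, false, 0xffff, 0x4082, [0xf282, 0xbe74, 0xac00, 0x0]⟩

def ip3 : List Nat := [0x93e8, 0x3ec0, 0xcac0]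
def l3 : Let := ⟨2, false, 0xffff, 0x128, [0x57e8, 0x8c00, 0x8c00, 0x72c0]⟩

def ip4 : List Nat := [0x1858, 0xb654, 0xc008]
def l4 : Let := ⟨3, false, 0xffff, 0x9410, [0xd844, 0x8648, 0x9214, 0x6000]⟩

def ip5 : List Nat := [0x965d, 0x2b44, 0x608a]
def l5 : Let := ⟨3, true, 0xffff, 0x800, [0xf653, 0x28c8, 0x2286, 0x4100]⟩

def NT : List Net := [n0, n1, n2, n3]
def LT : List Let := [⟨0, false, 0, 0, []⟩, l1, l2, l3, l4, l5]
def T : Tab := ⟨NT, LT⟩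
def EX : List (List Nat) := [[], [0], [2], [4], [6], [7]]
def RL : List (List Nat) := [[6, 6, 6], [6, 0, 6, 0], [6, 4, 6, 4, 6, 4, 6, 4, 6, 4], [6, 4, 7, 4, 0, 4, 6, 4, 7, 0, 4, 0], [0, 6, 2, 7, 2, 0, 2], [4, 7, 4, 2, 4, 6, 4, 2], [4, 0, 2, 4, 0, 2, 4, 0, 2]]
def XL : List (List Nat) := []
def BW : List (List Nat) := [[0], [4], [6]]
def IV : Nat := 0x40503020100
def L : List Nat := [1, 2, 3, 4, 5]
def gs : List Nat := [1, 2, 3, 4]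
def base : List Nat := [1, 3, 4]

end Cfsg.Agent.Spor.J4mb
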